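import Mathlib
import Cfsg.Agent.ClassicalGeometry.AutPSL.Root
import Cfsg.Agent.LieClassical.SLGen

/-!
# Subgroups of `SL ι F` with a transvection group (helper507, for S5906, S5907)

* `Irr K` : `K ≤ SL ι F` is irreducible;
* `top_of_center` : an irreducible subgroup containing all transvections with a given centre is everything;
* `exists_sylow` : a Sylow `p`-subgroup `S` of `PSL ι F` (`p` the characteristic) such that a subgroup containing `S`
  with irreducible preimage is everything.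
-/

set_option autoImplicit false
set_option linter.unusedSectionVars false

namespace Cfsg.Agent.H507.Mc

open Matrix Subgroup
open Cfsg.Agent.ClassicalGeometry.AutPSL.Root (tr coe_tr tr_mulVec sl_ext sl_mul_mulVec tr_mul_same_axis
  tr_mul_same_center transvection_eq_tr pr pr_surjective)

variable {ι F : Type*} [Fintype ι] [DecidableEq ι] [Field F]

/-- `K` has no invariant subspaces -/
def Irr (K : Subgroup (Matrix.SpecialLinearGroup ι F)) : Prop :=
  ∀ W : Submodule F (ι → F), (∀ g ∈ K, ∀ w ∈ W, (g : Matrix ι ι F) *ᵥ w ∈ W) → W = ⊥ ∨ W = ⊤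

theorem Irr.mono {K L : Subgroup (Matrix.SpecialLinearGroup ι F)} (h : Irr K) (hKL : K ≤ L) : Irr L :=
  fun W hW => h W fun g hg => hW g (hKL hg)

theorem inv_mulVec (g : Matrix.SpecialLinearGroup ι F) (x : ι → F) :
    ((g⁻¹ : Matrix.SpecialLinearGroup ι F) : Matrix ι ι F) *ᵥ ((g : Matrix ι ι F) *ᵥ x) = x := by
  rw [← sl_mul_mulVec, inv_mul_cancel, Matrix.SpecialLinearGroup.coe_one, one_mulVec]

theorem mulVec_inv (g : Matrix.SpecialLinearGroup ι F) (x : ι → F) :
    (g : Matrix ι ι F) *ᵥ (((g⁻¹ : Matrix.SpecialLinearGroup ι F) : Matrix ι ι F) *ᵥ x) = x := by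
  rw [← sl_mul_mulVec, mul_inv_cancel, Matrix.SpecialLinearGroup.coe_one, one_mulVec]

/-- conjugates of irreducible subgroups are irreducible -/
theorem Irr.conj {K : Subgroup (Matrix.SpecialLinearGroup ι F)} (h : Irr K) (g : Matrix.SpecialLinearGroup ι F)
    {L : Subgroup (Matrix.SpecialLinearGroup ι F)} (hL : ∀ x ∈ K, g * x * g⁻¹ ∈ L) : Irr L := by
  intro W hW
  set f : (ι → F) ≃ₗ[F] (ι → F) := Matrix.SpecialLinearGroup.toLin' g with hf
  have hfa : ∀ x, f x = (g : Matrix ι ι F) *ᵥ x := fun x => Matrix.SpecialLinearGroup.toLin'_apply g x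
  have h1 := h (W.comap (f : (ι → F) →ₗ[F] (ι → F))) fun x hx w hw => by
    rw [Submodule.mem_comap] at hw ⊢
    change f ((x : Matrix ι ι F) *ᵥ w) ∈ W
    change f w ∈ W at hw
    have h2 := hW _ (hL x hx) _ hw
    rw [hfa, sl_mul_mulVec, sl_mul_mulVec, inv_mulVec] at h2
    rwa [hfa]
  rcases h1 with h1 | h1
  · left
    rw [eq_bot_iff]
    intro w hw
    have h2 : f.symm w ∈ W.comap (f : (ι → F) →ₗ[F] (ι → F)) := by
      rw [Submodule.mem_comap]
      change f (f.symm w) ∈ W
      rwa [f.apply_symm_apply]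
    rw [h1, Submodule.mem_bot] at h2
    rw [Submodule.mem_bot]
    have := congrArg f h2
    rwa [f.apply_symm_apply, map_zero] at this
  · right
    rw [eq_top_iff]
    intro w _
    have h2 : f.symm w ∈ W.comap (f : (ι → F) →ₗ[F] (ι → F)) := by
      rw [h1]; exact Submodule.mem_top
    rw [Submodule.mem_comap] at h2
    change f (f.symm w) ∈ W at h2
    rwa [f.apply_symm_apply] at h2

theorem conj_orth (g : Matrix.SpecialLinearGroup ι F) {a φ : ι → F} (h : φ ⬝ᵥ a = 0) :
    (φ ᵥ* ((g⁻¹ : Matrix.SpecialLinearGroup ι F) : Matrix ι ι F)) ⬝ᵥ ((g : Matrix ι ι F) *ᵥ a) = 0 := by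
  rw [← Matrix.dotProduct_mulVec, inv_mulVec, h]

theorem conj_tr (g : Matrix.SpecialLinearGroup ι F) {a φ : ι → F} (h : φ ⬝ᵥ a = 0) :
    g * tr a φ h * g⁻¹ = tr _ _ (conj_orth g h) := by
  rw [mul_inv_eq_iff_eq_mul]
  apply sl_ext
  intro x
  rw [sl_mul_mulVec, sl_mul_mulVec, tr_mulVec, tr_mulVec, mulVec_add, mulVec_smul, ← Matrix.dotProduct_mulVec,
    inv_mulVec]

theorem tr_congr {a b φ ψ : ι → F} {h : φ ⬝ᵥ a = 0} {h' : ψ ⬝ᵥ b = 0} (hab : a = b) (hφ : φ = ψ) :
    tr a φ h = tr b ψ h' := by subst hab hφ; rfl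

theorem tr_smul {a φ : ι → F} (_h : φ ⬝ᵥ a = 0) (c : F) {h' : φ ⬝ᵥ (c • a) = 0} {h'' : (c • φ) ⬝ᵥ a = 0} :
    tr (c • a) φ h' = tr a (c • φ) h'' := by
  apply Subtype.ext
  rw [coe_tr, coe_tr, smul_vecMulVec, vecMulVec_smul]

/-- a linear form with given values -/
theorem exists_form {a b : ι → F} (hb : ∀ c : F, b ≠ c • a) :
    ∃ φ : ι → F, φ ⬝ᵥ a = 0 ∧ φ ⬝ᵥ b = 1 := by
  have h1 : b ∉ Submodule.span F {a} := by
    rw [Submodule.mem_span_singleton]
    rintro ⟨c, hc⟩
    exact hb c hc.symm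
  obtain ⟨f, hf1, hf2⟩ := Submodule.exists_le_ker_of_notMem h1
  have hfa : f a = 0 := hf2 (Submodule.mem_span_singleton_self a)
  have hφ : ∀ x : ι → F, (fun i => f (Pi.single i 1)) ⬝ᵥ x = f x := by
    intro x
    have h2 : x = ∑ i, x i • (Pi.single i 1 : ι → F) := by
      ext j
      simp [Finset.sum_apply, Pi.single_apply]
    conv_rhs => rw [h2]
    simp only [map_sum, dotProduct, map_smul, smul_eq_mul]
    exact Finset.sum_congr rfl fun i _ => mul_comm _ _
  refine ⟨(f b)⁻¹ • fun i => f (Pi.single i 1), ?_, ?_⟩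
  · rw [smul_dotProduct, hφ, hfa, smul_zero]
  · rw [smul_dotProduct, hφ, smul_eq_mul, inv_mul_cancel₀ hf1]

/-- **An irreducible subgroup with a full centre.** -/
theorem top_of_center {K : Subgroup (Matrix.SpecialLinearGroup ι F)} (hK : Irr K) {v : ι → F} (hv : v ≠ 0)
    (h : ∀ (φ : ι → F) (hφ : φ ⬝ᵥ v = 0), tr v φ hφ ∈ K) : K = ⊤ := by
  -- the set of centres
  let X : Submodule F (ι → F) :=
    { carrier := {w | ∀ (φ : ι → F) (hφ : φ ⬝ᵥ w = 0), tr w φ hφ ∈ K}
      zero_mem' := fun φ hφ => by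
        have : tr (0 : ι → F) φ hφ = 1 := by
          apply Subtype.ext
          rw [coe_tr, zero_vecMulVec, add_zero, Matrix.SpecialLinearGroup.coe_one]
        rw [this]
        exact one_mem _
      smul_mem' := fun c w hw φ hφ => by
        have h1 : (c • φ) ⬝ᵥ w = 0 := by
          rw [dotProduct_smul] at hφ
          rw [smul_dotProduct, hφ]
        by_cases hc : c = 0
        · have : tr (c • w) φ hφ = 1 := by
            apply Subtype.ext
            rw [coe_tr, hc, zero_smul, zero_vecMulVec, add_zero, Matrix.SpecialLinearGroup.coe_one]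
          rw [this]
          exact one_mem _
        · have h2 : φ ⬝ᵥ w = 0 := by
            rw [dotProduct_smul, smul_eq_mul] at hφ
            exact (mul_eq_zero.1 hφ).resolve_left hc
          rw [tr_smul (_h := h2) (h'' := h1)]
          exact hw _ _
      add_mem' := fun {w₁ w₂} h₁ h₂ φ hφ => by
        by_cases hw1 : w₁ = 0
        · rw [tr_congr (b := w₂) (ψ := φ) (h' := by rw [hw1, zero_add] at hφ; exact hφ) (by rw [hw1, zero_add]) rfl]
          exact h₂ _ _
        by_cases hd : ∃ c : F, w₂ = c • w₁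
        · obtain ⟨c, hc⟩ := hd
          have e : w₁ + w₂ = (1 + c) • w₁ := by rw [hc, add_smul, one_smul]
          by_cases hc1 : 1 + c = 0
          · have : tr (w₁ + w₂) φ hφ = 1 := by
              apply Subtype.ext
              rw [coe_tr, e, hc1, zero_smul, zero_vecMulVec, add_zero, Matrix.SpecialLinearGroup.coe_one]
            rw [this]
            exact one_mem _
          · have h2 : φ ⬝ᵥ w₁ = 0 := by
              rw [e, dotProduct_smul, smul_eq_mul] at hφ
              exact (mul_eq_zero.1 hφ).resolve_left hc1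
            rw [tr_congr (b := (1 + c) • w₁) (ψ := φ) (h' := by rw [dotProduct_smul, h2, smul_zero]) e rfl,
              tr_smul (_h := h2) (h'' := by rw [smul_dotProduct, h2, smul_zero])]
            exact h₁ _ _
        · push Not at hd
          obtain ⟨ψ, hψ1, hψ2⟩ := exists_form hd
          -- `tr w₁ ψ` moves `w₂` to `w₁ + w₂`
          have hg := h₁ ψ hψ1
          set g := tr w₁ ψ hψ1 with hgdef
          have hgw : (g : Matrix ι ι F) *ᵥ w₂ = w₁ + w₂ := by
            rw [hgdef, tr_mulVec, hψ2, one_smul, add_comm]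
          have h3 : (φ ᵥ* (g : Matrix ι ι F)) ⬝ᵥ w₂ = 0 := by
            rw [← Matrix.dotProduct_mulVec, hgw, hφ]
          have h4 := mul_mem (mul_mem hg (h₂ _ h3)) (inv_mem hg)
          rw [conj_tr] at h4
          have h5 : (φ ᵥ* (g : Matrix ι ι F)) ᵥ* ((g⁻¹ : Matrix.SpecialLinearGroup ι F) : Matrix ι ι F) = φ := by
            rw [vecMul_vecMul, ← Matrix.SpecialLinearGroup.coe_mul, mul_inv_cancel, Matrix.SpecialLinearGroup.coe_one, vecMul_one]
          rwa [tr_congr (b := w₁ + w₂) (ψ := φ) (h' := hφ) hgw h5] at h4 }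
  have hX : X = ⊤ := by
    refine (hK X fun g hg w hw φ hφ => ?_).resolve_left fun h0 => hv ?_
    · have h3 : (φ ᵥ* (g : Matrix ι ι F)) ⬝ᵥ w = 0 := by
        rw [← Matrix.dotProduct_mulVec, hφ]
      have h4 := mul_mem (mul_mem hg (hw _ h3)) (inv_mem hg)
      rw [conj_tr] at h4
      have h5 : (φ ᵥ* (g : Matrix ι ι F)) ᵥ* ((g⁻¹ : Matrix.SpecialLinearGroup ι F) : Matrix ι ι F) = φ := by
        rw [vecMul_vecMul, ← Matrix.SpecialLinearGroup.coe_mul, mul_inv_cancel, Matrix.SpecialLinearGroup.coe_one, vecMul_one]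
      rwa [tr_congr (b := (g : Matrix ι ι F) *ᵥ w) (ψ := φ) (h' := hφ) rfl h5] at h4
    · have : v ∈ X := h
      rw [h0] at this
      exact (Submodule.mem_bot F).1 this
  rw [eq_top_iff, ← LieClassical.SLGen.closure_transvections, closure_le]
  rintro _ ⟨i, j, hij, c, rfl⟩
  rw [transvection_eq_tr]
  have : (c • Pi.single i 1 : ι → F) ∈ X := by rw [hX]; exact Submodule.mem_top
  exact this _ _

/-- the group of transvections with centre `v` -/
def cen (v : ι → F) : Subgroup (Matrix.SpecialLinearGroup ι F) where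
  carrier := {g | ∃ (φ : ι → F) (h : φ ⬝ᵥ v = 0), g = tr v φ h}
  one_mem' := ⟨0, zero_dotProduct _, by
    apply Subtype.ext
    rw [coe_tr, vecMulVec_zero, add_zero, Matrix.SpecialLinearGroup.coe_one]⟩
  mul_mem' := by
    rintro _ _ ⟨φ, h, rfl⟩ ⟨ψ, h', rfl⟩
    exact ⟨_, _, tr_mul_same_center _ _ _ h h'⟩
  inv_mem' := by
    rintro _ ⟨φ, h, rfl⟩
    refine ⟨-φ, by rw [neg_dotProduct, h, neg_zero], ?_⟩
    rw [inv_eq_iff_mul_eq_one, tr_mul_same_center]
    apply Subtype.ext
    rw [coe_tr, add_neg_cancel, vecMulVec_zero, add_zero, Matrix.SpecialLinearGroup.coe_one]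

theorem cen_pow {v : ι → F} {φ : ι → F} (h : φ ⬝ᵥ v = 0) (k : ℕ) :
    tr v φ h ^ k = tr v ((k : F) • φ) (by rw [smul_dotProduct, h, smul_zero]) := by
  induction k with
  | zero =>
    rw [pow_zero]
    apply Subtype.ext
    rw [coe_tr, Nat.cast_zero, zero_smul, vecMulVec_zero, add_zero, Matrix.SpecialLinearGroup.coe_one]
  | succ k ih =>
    rw [pow_succ, ih, tr_mul_same_center]
    refine tr_congr rfl ?_
    rw [Nat.cast_succ, add_smul, one_smul]

theorem isPGroup_cen {p : ℕ} [CharP F p] (v : ι → F) : IsPGroup p ↥(cen v) := by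
  rintro ⟨_, φ, h, rfl⟩
  refine ⟨1, Subtype.ext ?_⟩
  rw [pow_one]
  change tr v φ h ^ p = 1
  rw [cen_pow]
  apply Subtype.ext
  rw [coe_tr, CharP.cast_eq_zero, zero_smul, vecMulVec_zero, add_zero, Matrix.SpecialLinearGroup.coe_one]

/-- **The Sylow subgroup.** -/
theorem exists_sylow [Finite F] [Nonempty ι] {p : ℕ} [Fact p.Prime] [CharP F p] :
    ∃ S : Sylow p (Matrix.ProjectiveSpecialLinearGroup ι F), ∀ K : Subgroup (Matrix.ProjectiveSpecialLinearGroup ι F),
      (S : Subgroup (Matrix.ProjectiveSpecialLinearGroup ι F)) ≤ K → Irr (K.comap pr) → K = ⊤ := by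
  obtain ⟨i⟩ := ‹Nonempty ι›
  set v : ι → F := Pi.single i 1 with hv
  have hv0 : v ≠ 0 := by rw [hv]; simp
  have h1 : IsPGroup p ↥((cen v).map pr) := (isPGroup_cen v).map _
  obtain ⟨S, hS⟩ := h1.exists_le_sylow
  refine ⟨S, fun K hK hI => ?_⟩
  have h2 : K.comap pr = ⊤ := by
    refine top_of_center hI hv0 fun φ hφ => ?_
    rw [mem_comap]
    exact hK (hS (mem_map_of_mem _ ⟨φ, hφ, rfl⟩))
  rw [eq_top_iff]
  intro x _
  obtain ⟨y, rfl⟩ := pr_surjective x
  have : y ∈ K.comap pr := by rw [h2]; exact mem_top _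
  exact this

end Cfsg.Agent.H507.Mc
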