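import Cfsg.Agent.H507.Mc.Base

/-!
# The similitude group of the symplectic form in `SL_4(q)` (helper507, for S5906, S5907)

* `sf` : the alternating form on `F^4`; `Sim F` : its similitudes in `SL_4`;
* `sim_irr` : `Sim F` is irreducible;
* `sim_coatom` : `Sim F` is a maximal subgroup of `SL_4(F)`.
-/

set_option autoImplicit false
set_option linter.unusedSectionVars false

namespace Cfsg.Agent.H507.Mc

open Matrix Subgroup
open Cfsg.Agent.ClassicalGeometry.AutPSL.Root (tr coe_tr tr_mulVec sl_ext sl_mul_mulVec tr_mul_same_axis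
  tr_mul_same_center transvection_eq_tr pr pr_surjective)

variable {F : Type*} [Field F]

/-- the alternating form -/
def sf (u v : Fin 4 → F) : F := u 0 * v 2 - u 2 * v 0 + (u 1 * v 3 - u 3 * v 1)

/-- the linear form `v ↦ sf v a` -/
def sv (a : Fin 4 → F) : Fin 4 → F := ![a 2, a 3, - a 0, - a 1]

theorem sv_dot (a v : Fin 4 → F) : sv a ⬝ᵥ v = sf v a := by
  simp only [sv, sf, dotProduct, Fin.sum_univ_four, Matrix.cons_val_zero, Matrix.cons_val_one, Matrix.cons_val]
  ring

/-- the inverse of `sv` -/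
def vs (a : Fin 4 → F) : Fin 4 → F := ![- a 2, - a 3, a 0, a 1]

theorem sv_vs (a : Fin 4 → F) : sv (vs a) = a := by
  ext i
  fin_cases i <;> simp [sv, vs]

theorem sf_add_left (x y z : Fin 4 → F) : sf (x + y) z = sf x z + sf y z := by
  simp only [sf, Pi.add_apply]; ring

theorem sf_add_right (x y z : Fin 4 → F) : sf x (y + z) = sf x y + sf x z := by
  simp only [sf, Pi.add_apply]; ring

theorem sf_smul_left (a : F) (x y : Fin 4 → F) : sf (a • x) y = a * sf x y := by
  simp only [sf, Pi.smul_apply, smul_eq_mul]; ring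

theorem sf_smul_right (a : F) (x y : Fin 4 → F) : sf x (a • y) = a * sf x y := by
  simp only [sf, Pi.smul_apply, smul_eq_mul]; ring

theorem sf_self (x : Fin 4 → F) : sf x x = 0 := by
  simp only [sf]; ring

theorem sf_swap (x y : Fin 4 → F) : sf y x = - sf x y := by
  simp only [sf]; ring

theorem sf_nondeg {x : Fin 4 → F} (h : ∀ y, sf x y = 0) : x = 0 := by
  have h0 := h (Pi.single 2 1)
  have h1 := h (Pi.single 3 1)
  have h2 := h (Pi.single 0 1)
  have h3 := h (Pi.single 1 1)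
  simp [sf] at h0 h1 h2 h3
  ext i
  fin_cases i
  · simpa using h0
  · simpa using h1
  · simpa using h2
  · simpa using h3

theorem exists_sf_one {x : Fin 4 → F} (hx : x ≠ 0) : ∃ y, sf x y ≠ 0 := by
  by_contra hc
  push Not at hc
  exact hx (sf_nondeg hc)

/-- the determinant and the form -/
theorem det_eq_sf (A : Matrix (Fin 4) (Fin 4) F) :
    A.det = sf (A.col 0) (A.col 2) * sf (A.col 1) (A.col 3) - sf (A.col 0) (A.col 1) * sf (A.col 2) (A.col 3)
      - sf (A.col 0) (A.col 3) * sf (A.col 1) (A.col 2) := by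
  simp only [sf, Matrix.col_apply]
  rw [Matrix.det_succ_row_zero]
  simp only [Fin.sum_univ_four, Matrix.det_fin_three, Matrix.submatrix_apply]
  simp [Fin.succAbove, Fin.succ, Fin.lt_def]
  ring

/-- the similitudes -/
def Sim (F : Type*) [Field F] : Subgroup (Matrix.SpecialLinearGroup (Fin 4) F) where
  carrier := {g | ∃ c : F, c ≠ 0 ∧ ∀ x y, sf ((g : Matrix (Fin 4) (Fin 4) F) *ᵥ x) ((g : Matrix (Fin 4) (Fin 4) F) *ᵥ y) =
    c * sf x y}
  one_mem' := ⟨1, one_ne_zero, fun x y => by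
    rw [Matrix.SpecialLinearGroup.coe_one, one_mulVec, one_mulVec, one_mul]⟩
  mul_mem' := by
    rintro g h ⟨c, hc, hg⟩ ⟨d, hd, hh⟩
    refine ⟨c * d, mul_ne_zero hc hd, fun x y => ?_⟩
    rw [sl_mul_mulVec, sl_mul_mulVec, hg, hh, mul_assoc]
  inv_mem' := by
    rintro g ⟨c, hc, hg⟩
    refine ⟨c⁻¹, inv_ne_zero hc, fun x y => ?_⟩
    have := hg (((g⁻¹ : Matrix.SpecialLinearGroup (Fin 4) F) : Matrix (Fin 4) (Fin 4) F) *ᵥ x)
      (((g⁻¹ : Matrix.SpecialLinearGroup (Fin 4) F) : Matrix (Fin 4) (Fin 4) F) *ᵥ y)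
    rw [mulVec_inv, mulVec_inv] at this
    rw [this, inv_mul_cancel_left₀ hc]

theorem mem_sim {g : Matrix.SpecialLinearGroup (Fin 4) F} : g ∈ Sim F ↔ ∃ c : F, c ≠ 0 ∧
    ∀ x y, sf ((g : Matrix (Fin 4) (Fin 4) F) *ᵥ x) ((g : Matrix (Fin 4) (Fin 4) F) *ᵥ y) = c * sf x y := Iff.rfl

theorem sv_smul_orth (a : Fin 4 → F) (c : F) : (c • sv a) ⬝ᵥ a = 0 := by
  rw [smul_dotProduct, sv_dot, sf_self, smul_zero]

/-- the symplectic transvections -/
theorem tr_mem_sim (a : Fin 4 → F) (c : F) : tr a (c • sv a) (sv_smul_orth a c) ∈ Sim F := by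
  refine ⟨1, one_ne_zero, fun x y => ?_⟩
  rw [tr_mulVec, tr_mulVec, smul_dotProduct, smul_dotProduct, sv_dot, sv_dot, sf_add_left, sf_add_right, sf_add_right,
    sf_smul_left, sf_smul_left, sf_smul_right, sf_smul_right, sf_self, sf_swap a y, smul_eq_mul, smul_eq_mul]
  rw [sf_swap y a]
  ring

/-- the similitude group is irreducible -/
theorem sim_irr : Irr (Sim F) := by
  intro W hW
  by_cases hb : W = ⊥
  · exact Or.inl hb
  · right
    obtain ⟨w, hw, hw0⟩ := (Submodule.ne_bot_iff W).1 hb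
    have h1 : ∀ a, sf w a ≠ 0 → a ∈ W := by
      intro a ha
      have h2 := hW _ (tr_mem_sim a 1) w hw
      rw [tr_mulVec, smul_dotProduct, sv_dot, one_smul] at h2
      have h3 := (W.add_mem_iff_right hw).1 h2
      exact (W.smul_mem_iff ha).1 h3
    obtain ⟨b, hb⟩ := exists_sf_one hw0
    rw [eq_top_iff]
    intro a _
    by_cases ha : sf w a = 0
    · have h2 := h1 (a + b) (by rw [sf_add_right, ha, zero_add]; exact hb)
      exact (W.add_mem_iff_left (h1 b hb)).1 h2
    · exact h1 a ha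

/-- a symplectic basis -/
theorem exists_frame {x y : Fin 4 → F} (hx : x ≠ 0) (hxy : ∀ c : F, y ≠ c • x) (h0 : sf x y = 0) :
    ∃ g : Matrix.SpecialLinearGroup (Fin 4) F,
      (∀ u v, sf ((g : Matrix (Fin 4) (Fin 4) F) *ᵥ u) ((g : Matrix (Fin 4) (Fin 4) F) *ᵥ v) = sf u v) ∧
      (g : Matrix (Fin 4) (Fin 4) F) *ᵥ (Pi.single 0 1) = x ∧ (g : Matrix (Fin 4) (Fin 4) F) *ᵥ (Pi.single 1 1) = y := by
  have hyx : ∀ c : F, x ≠ c • y := by
    intro c hc
    have hc0 : c ≠ 0 := by
      rintro rfl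
      rw [zero_smul] at hc
      exact hx hc
    exact hxy c⁻¹ (by rw [hc, smul_smul, inv_mul_cancel₀ hc0, one_smul])
  obtain ⟨φ, hφ1, hφ2⟩ := exists_form hyx
  obtain ⟨ψ, hψ1, hψ2⟩ := exists_form hxy
  rw [← sv_vs φ, sv_dot] at hφ1 hφ2
  rw [← sv_vs ψ, sv_dot] at hψ1 hψ2
  set x' := vs φ with hx'
  set z := vs ψ with hz
  set y' := z + sf x' z • x with hy'
  have e1 : sf x x' = 1 := hφ2
  have e2 : sf y x' = 0 := hφ1
  have e3 : sf x z = 0 := hψ1
  have e4 : sf y z = 1 := hψ2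
  have e5 : sf x y' = 0 := by rw [hy', sf_add_right, sf_smul_right, e3, sf_self, mul_zero, add_zero]
  have e6 : sf y y' = 1 := by
    rw [hy', sf_add_right, sf_smul_right, e4, sf_swap x y, h0, neg_zero, mul_zero, add_zero]
  have e7 : sf x' y' = 0 := by
    rw [hy', sf_add_right, sf_smul_right, sf_swap x x', e1]
    ring
  set A : Matrix (Fin 4) (Fin 4) F := Matrix.of fun i j => (![x, y, x', y'] : Fin 4 → Fin 4 → F) j i with hA
  have hc0 : A.col 0 = x := rfl
  have hc1 : A.col 1 = y := rfl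
  have hc2 : A.col 2 = x' := rfl
  have hc3 : A.col 3 = y' := rfl
  have hdet : A.det = 1 := by
    rw [det_eq_sf, hc0, hc1, hc2, hc3, e1, e6, h0, e5]
    ring
  have hmul : ∀ u : Fin 4 → F, A *ᵥ u = u 0 • x + u 1 • y + u 2 • x' + u 3 • y' := by
    intro u
    ext i
    simp only [mulVec, dotProduct, Fin.sum_univ_four, Pi.add_apply, Pi.smul_apply, smul_eq_mul, hA, Matrix.of_apply,
      Matrix.cons_val_zero, Matrix.cons_val_one, Matrix.cons_val]
    ring
  refine ⟨⟨A, hdet⟩, fun u v => ?_, ?_, ?_⟩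
  · change sf (A *ᵥ u) (A *ᵥ v) = sf u v
    rw [hmul, hmul]
    simp only [sf_add_left, sf_add_right, sf_smul_left, sf_smul_right, sf_self, e1, e2, e5, e6, e7, h0,
      sf_swap x x', sf_swap y x', sf_swap x y', sf_swap y y', sf_swap x' y', sf_swap x y]
    simp only [sf]
    ring
  · change A *ᵥ _ = x
    rw [hmul]
    simp
  · change A *ᵥ _ = y
    rw [hmul]
    simp

/-- an isometry moves the linear forms -/
theorem sv_vecMul_inv {g : Matrix.SpecialLinearGroup (Fin 4) F}
    (hg : ∀ u v, sf ((g : Matrix (Fin 4) (Fin 4) F) *ᵥ u) ((g : Matrix (Fin 4) (Fin 4) F) *ᵥ v) = sf u v)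
    (a : Fin 4 → F) : sv a ᵥ* ((g⁻¹ : Matrix.SpecialLinearGroup (Fin 4) F) : Matrix (Fin 4) (Fin 4) F) =
      sv ((g : Matrix (Fin 4) (Fin 4) F) *ᵥ a) := by
  refine _root_.dotProduct_eq _ _ fun v => ?_
  rw [← Matrix.dotProduct_mulVec, sv_dot, sv_dot, ← hg, mulVec_inv]

theorem sv_orth {x y : Fin 4 → F} (h : sf x y = 0) : sv y ⬝ᵥ x = 0 := by rw [sv_dot, h]

/-- **The similitude group is maximal.** -/
theorem sim_top {H : Subgroup (Matrix.SpecialLinearGroup (Fin 4) F)} (hle : Sim F ≤ H) (hne : ¬ H ≤ Sim F) :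
    H = ⊤ := by
  obtain ⟨h, hH, hS⟩ := SetLike.not_le_iff_exists.1 hne
  -- a transvection which is not symplectic
  obtain ⟨x, y, hx, hxy, h0, hT⟩ : ∃ (x y : Fin 4 → F) (_ : x ≠ 0) (_ : ∀ c : F, y ≠ c • x) (h0 : sf x y = 0),
      tr x (sv y) (sv_orth h0) ∈ H := by
    by_contra hcon
    push Not at hcon
    -- the adjoint
    set k : (Fin 4 → F) → (Fin 4 → F) := fun a =>
      vs (sv a ᵥ* ((h⁻¹ : Matrix.SpecialLinearGroup (Fin 4) F) : Matrix (Fin 4) (Fin 4) F)) with hk
    have hka : ∀ a v, sf v (k a) = sf (((h⁻¹ : Matrix.SpecialLinearGroup (Fin 4) F) : Matrix (Fin 4) (Fin 4) F) *ᵥ v) a := by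
      intro a v
      rw [← sv_dot, hk, sv_vs, ← Matrix.dotProduct_mulVec, sv_dot]
    have h1 : ∀ a, a ≠ 0 → ∃ c : F, k a = c • ((h : Matrix (Fin 4) (Fin 4) F) *ᵥ a) := by
      intro a ha
      by_contra hc
      push Not at hc
      have h2 : sf ((h : Matrix (Fin 4) (Fin 4) F) *ᵥ a) (k a) = 0 := by
        rw [hka, inv_mulVec, sf_self]
      have h3 : (h : Matrix (Fin 4) (Fin 4) F) *ᵥ a ≠ 0 := by
        intro h4
        have := inv_mulVec h a
        rw [h4, mulVec_zero] at this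
        exact ha this.symm
      refine hcon _ _ h3 hc h2 ?_
      have h4 := mul_mem (mul_mem hH (hle (tr_mem_sim a 1))) (inv_mem hH)
      rw [conj_tr] at h4
      have h5 : (((1 : F) • sv a) ᵥ* ((h⁻¹ : Matrix.SpecialLinearGroup (Fin 4) F) : Matrix (Fin 4) (Fin 4) F)) =
          sv (k a) := by
        rw [one_smul, hk, sv_vs]
      rwa [tr_congr (b := (h : Matrix (Fin 4) (Fin 4) F) *ᵥ a) (ψ := sv (k a)) (h' := sv_orth h2) rfl h5] at h4
    -- a scalar
    let f : (Fin 4 → F) →ₗ[F] (Fin 4 → F) :=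
      { toFun := fun a => ((h⁻¹ : Matrix.SpecialLinearGroup (Fin 4) F) : Matrix (Fin 4) (Fin 4) F) *ᵥ k a
        map_add' := fun a b => by
          rw [← mulVec_add]
          congr 1
          apply sub_eq_zero.1
          rw [← neg_eq_zero]
          refine sf_nondeg fun v => ?_
          have e : sf (k (a + b)) v = sf (k a) v + sf (k b) v := by
            rw [sf_swap v, sf_swap v (k a), sf_swap v (k b), hka, hka, hka, sf_add_right]
            ring
          have e2 : -(k (a + b) - (k a + k b)) = k a + k b + (-1 : F) • k (a + b) := by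
            rw [neg_one_smul]; abel
          rw [e2, sf_add_left, sf_add_left, sf_smul_left, e]
          ring
        map_smul' := fun c a => by
          rw [RingHom.id_apply, ← mulVec_smul]
          congr 1
          apply sub_eq_zero.1
          refine sf_nondeg fun v => ?_
          have e : sf (k (c • a)) v = c * sf (k a) v := by
            rw [sf_swap v, sf_swap v (k a), hka, hka, sf_smul_right]
            ring
          have e2 : k (c • a) - c • k a = k (c • a) + (-c) • k a := by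
            rw [neg_smul]; abel
          rw [e2, sf_add_left, sf_smul_left, e]
          ring }
    obtain ⟨c, hc⟩ := LinearMap.exists_eq_smul_id_of_forall_notLinearIndependent (R := F) (f := f) (fun a => by
      by_cases ha : a = 0
      · intro hl
        have := hl.ne_zero 0
        exact this (by simpa using ha)
      · obtain ⟨c, hc⟩ := h1 a ha
        have h2 : f a = c • a := by
          change ((h⁻¹ : Matrix.SpecialLinearGroup (Fin 4) F) : Matrix (Fin 4) (Fin 4) F) *ᵥ k a = _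
          rw [hc, mulVec_smul, inv_mulVec]
        rw [LinearIndependent.pair_iff]
        push Not
        refine ⟨-c, 1, ?_, fun _ => one_ne_zero⟩
        rw [h2, one_smul, neg_smul, neg_add_cancel])
    have h2 : ∀ a, k a = c • ((h : Matrix (Fin 4) (Fin 4) F) *ᵥ a) := by
      intro a
      have h3 : ((h⁻¹ : Matrix.SpecialLinearGroup (Fin 4) F) : Matrix (Fin 4) (Fin 4) F) *ᵥ k a = c • a :=
        LinearMap.congr_fun hc a
      rw [← mulVec_smul, ← h3, mulVec_inv]
    have h3 : ∀ u v, c * sf ((h : Matrix (Fin 4) (Fin 4) F) *ᵥ u) ((h : Matrix (Fin 4) (Fin 4) F) *ᵥ v) = sf u v := by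
      intro u v
      rw [← sf_smul_right, ← h2, hka, inv_mulVec]
    have hc0 : c ≠ 0 := by
      rintro rfl
      have h4 := h3 (Pi.single 0 1) (Pi.single 2 1)
      rw [zero_mul] at h4
      simp [sf] at h4
    refine hS ⟨c⁻¹, inv_ne_zero hc0, fun u v => ?_⟩
    rw [← h3 u v, inv_mul_cancel_left₀ hc0]
  -- all transvections
  obtain ⟨g, hg, hg0, hg1⟩ := exists_frame hx hxy h0
  have hall : ∀ (u w : Fin 4 → F) (huw : sf u w = 0), u ≠ 0 → (∀ c : F, w ≠ c • u) → tr u (sv w) (sv_orth huw) ∈ H := by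
    intro u w huw hu hw
    obtain ⟨k, hk, hk0, hk1⟩ := exists_frame hu hw huw
    have hgi : ∀ u v, sf (((g⁻¹ : Matrix.SpecialLinearGroup (Fin 4) F) : Matrix (Fin 4) (Fin 4) F) *ᵥ u)
        (((g⁻¹ : Matrix.SpecialLinearGroup (Fin 4) F) : Matrix (Fin 4) (Fin 4) F) *ᵥ v) = sf u v := by
      intro u v
      rw [← hg, mulVec_inv, mulVec_inv]
    set m := k * g⁻¹ with hm
    have hmi : ∀ u v, sf ((m : Matrix (Fin 4) (Fin 4) F) *ᵥ u) ((m : Matrix (Fin 4) (Fin 4) F) *ᵥ v) = sf u v := by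
      intro u v
      rw [hm, sl_mul_mulVec, sl_mul_mulVec, hk, hgi]
    have hmH : m ∈ H := hle ⟨1, one_ne_zero, fun u v => by rw [hmi, one_mul]⟩
    have hmx : (m : Matrix (Fin 4) (Fin 4) F) *ᵥ x = u := by
      rw [hm, sl_mul_mulVec, ← hg0, inv_mulVec, hk0]
    have hmy : (m : Matrix (Fin 4) (Fin 4) F) *ᵥ y = w := by
      rw [hm, sl_mul_mulVec, ← hg1, inv_mulVec, hk1]
    have h4 := mul_mem (mul_mem hmH hT) (inv_mem hmH)
    rw [conj_tr] at h4
    rwa [tr_congr (b := u) (ψ := sv w) (h' := sv_orth huw) hmx (by rw [sv_vecMul_inv hmi, hmy])] at h4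
  rw [eq_top_iff, ← LieClassical.SLGen.closure_transvections, closure_le]
  rintro _ ⟨i, j, hij, c, rfl⟩
  rw [transvection_eq_tr]
  generalize_proofs hp
  revert hp
  generalize (c • Pi.single i 1 : Fin 4 → F) = u
  generalize (Pi.single j 1 : Fin 4 → F) = φ
  intro hp
  by_cases hu : u = 0
  · have : tr u φ hp = 1 := by
      apply Subtype.ext
      rw [coe_tr, hu, zero_vecMulVec, add_zero, Matrix.SpecialLinearGroup.coe_one]
    rw [SetLike.mem_coe, this]
    exact one_mem _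
  have hp' : sf u (vs φ) = 0 := by rw [← sv_dot, sv_vs, hp]
  by_cases hd : ∃ c : F, vs φ = c • u
  · obtain ⟨c, hc⟩ := hd
    have : φ = c • sv u := by
      rw [← sv_vs φ, hc]
      ext i
      fin_cases i <;> simp [sv]
    rw [SetLike.mem_coe, tr_congr (b := u) (ψ := c • sv u) (h' := sv_smul_orth u c) rfl this]
    exact hle (tr_mem_sim u c)
  · push Not at hd
    have := hall u (vs φ) hp' hu hd
    rwa [tr_congr (b := u) (ψ := φ) (h' := hp) rfl (sv_vs φ)] at this

theorem sim_ne_top : Sim F ≠ ⊤ := by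
  intro h
  -- `diag`-like element : the transvection `e₀ ↦ e₀`, `e₁ ↦ e₁ + e₀`
  have h0 : (Pi.single 1 1 : Fin 4 → F) ⬝ᵥ (Pi.single 0 1) = 0 := by simp
  have h1 : tr (Pi.single 0 1 : Fin 4 → F) (Pi.single 1 1) h0 ∈ Sim F := by rw [h]; exact mem_top _
  obtain ⟨c, hc, h2⟩ := h1
  have h3 := h2 (Pi.single 1 1) (Pi.single 2 1)
  rw [tr_mulVec, tr_mulVec] at h3
  simp [sf] at h3

theorem sim_coatom : IsCoatom (Sim F) :=
  ⟨sim_ne_top, fun _ hH => sim_top hH.le fun h => hH.not_ge h⟩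

/-- the centre is contained in the similitude group -/
theorem ker_le_sim : (pr : Matrix.SpecialLinearGroup (Fin 4) F →* _).ker ≤ Sim F := by
  intro x hx
  rw [MonoidHom.mem_ker] at hx
  obtain ⟨c, hc⟩ := Cfsg.Agent.ClassicalGeometry.AutPSL.Root.exists_smul_of_pr_eq (x := 1) (y := x)
    (by rw [map_one, hx])
  rw [Matrix.SpecialLinearGroup.coe_one] at hc
  have hc0 : c ≠ 0 := by
    rintro rfl
    have h := x.2
    rw [hc, zero_smul, Matrix.det_zero] at h
    exact zero_ne_one h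
  refine ⟨c * c, mul_ne_zero hc0 hc0, fun u v => ?_⟩
  rw [hc, smul_mulVec, smul_mulVec, one_mulVec, one_mulVec, sf_smul_left, sf_smul_right, mul_assoc]

end Cfsg.Agent.H507.Mc
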