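import Cfsg.Agent.H507.Mc.Sing
import Cfsg.Agent.H507.Mc.Sp4
import Cfsg.Agent.H940.SepTyp

/-!
# Five classes of maximal subgroups in `PSL_n(q)`, `n ≥ 4` (helper507, rows of S5906, S5907)

* `psl_five` : `MaxCls.Sep 5 (PSL (Fin n) F)` for `4 ≤ n` (`F` of any universe).
-/

set_option autoImplicit false
set_option linter.unusedSectionVars false

namespace Cfsg.Agent.H507.Mc

open Matrix Subgroup
open Cfsg.Agent.ClassicalGeometry.AutPSL.Root (tr coe_tr tr_mulVec sl_ext sl_mul_mulVec tr_mul_same_axis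
  tr_mul_same_center transvection_eq_tr pr pr_surjective)
open Cfsg.Agent.H940.MaxCls Cfsg.Agent.H940.SepTyp Cfsg.Agent.Omega.ML.Ex.Typ

section

variable {ι F : Type*} [Fintype ι] [DecidableEq ι] [Field F]

/-- a subgroup with irreducible preimage is apart from the normalizer of the Sylow subgroup -/
theorem apart_of_irr {p : ℕ} {S : Sylow p (Matrix.ProjectiveSpecialLinearGroup ι F)}
    (hS : ∀ K : Subgroup (Matrix.ProjectiveSpecialLinearGroup ι F),
      (S : Subgroup (Matrix.ProjectiveSpecialLinearGroup ι F)) ≤ K → Irr (K.comap pr) → K = ⊤)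
    {D : Subgroup (Matrix.ProjectiveSpecialLinearGroup ι F)} (hD : Irr (D.comap pr)) :
    Apart (normalizer ((S : Subgroup (Matrix.ProjectiveSpecialLinearGroup ι F)) : Set _)) D := by
  intro g K h1 h2
  refine hS K (le_normalizer.trans h1) ?_
  obtain ⟨h, rfl⟩ := pr_surjective g
  refine hD.conj h fun x hx => ?_
  rw [mem_comap, map_mul, map_mul, map_inv]
  exact h2 _ hx

end

/-- `PSL` is not cyclic -/
theorem zpowers_ne_top {F : Type*} [Field F] [Finite F] {n : ℕ} (hn : 3 ≤ n)
    (x : Matrix.ProjectiveSpecialLinearGroup (Fin n) F) : zpowers x ≠ ⊤ := by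
  intro h
  have hcomm : ∀ a b : Matrix.ProjectiveSpecialLinearGroup (Fin n) F, a * b = b * a := by
    intro a b
    obtain ⟨i, rfl⟩ := mem_zpowers_iff.1 (h ▸ mem_top a : a ∈ zpowers x)
    obtain ⟨j, rfl⟩ := mem_zpowers_iff.1 (h ▸ mem_top b : b ∈ zpowers x)
    rw [← _root_.zpow_add, ← _root_.zpow_add, add_comm]
  have h1 : commutator (Matrix.SpecialLinearGroup (Fin n) F) ≤ center _ := by
    rw [_root_.commutator_def, Subgroup.commutator_le]
    intro a _ b _
    rw [← Cfsg.Agent.ClassicalGeometry.AutPSL.Root.pr_eq_one_iff, map_commutatorElement,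
      commutatorElement_eq_one_iff_mul_comm]
    exact hcomm _ _
  rw [LieClassical.SLGen.commutator_eq_top (by rw [Fintype.card_fin]; exact hn)] at h1
  have h01 : (⟨1, by omega⟩ : Fin n) ≠ ⟨0, by omega⟩ := by
    intro h; simpa using congrArg Fin.val h
  have h0 : (Pi.single (⟨1, by omega⟩ : Fin n) (1 : F) : Fin n → F) ⬝ᵥ (Pi.single (⟨0, by omega⟩ : Fin n) 1) = 0 := by
    rw [dotProduct_single, Pi.single_eq_of_ne h01.symm, zero_mul]
  obtain ⟨c, -, hc⟩ := Matrix.SpecialLinearGroup.mem_center_iff.1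
    (h1 (mem_top (tr (Pi.single (⟨0, by omega⟩ : Fin n) (1 : F) : Fin n → F) (Pi.single (⟨1, by omega⟩ : Fin n) 1) h0)))
  have h2 := congrFun (congrFun hc ⟨0, by omega⟩) ⟨1, by omega⟩
  rw [coe_tr] at h2
  simp [vecMulVec_apply, h01.symm] at h2

/-- **`n ≥ 6`.** -/
theorem psl_five_ge6 (F : Type*) [Field F] [Finite F] {n : ℕ} (hn : 6 ≤ n) :
    Sep 5 (Matrix.ProjectiveSpecialLinearGroup (Fin n) F) := by
  obtain ⟨p, hpc⟩ := CharP.exists F
  have : Fact p.Prime := ⟨CharP.char_is_prime F p⟩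
  obtain ⟨m, rfl⟩ : ∃ m, n = m + 1 := ⟨n - 1, by omega⟩
  obtain ⟨S⟩ : Nonempty (Sylow p (Matrix.ProjectiveSpecialLinearGroup (Fin (m + 1)) F)) := inferInstance
  have h := sep_typ_add (typ_PSL (F := F) m (p := p)) S (k := 0) (fun i => i.elim0) (fun i => i.elim0)
    (fun i => i.elim0) fun i => i.elim0
  exact h.mono (by omega)

/-- the image of the Singer element -/
theorem irr_comap_zpowers {ι F : Type*} [Fintype ι] [DecidableEq ι] [Field F]
    {y : Matrix.SpecialLinearGroup ι F} (hy : Irr (zpowers y)) : Irr ((zpowers (pr y)).comap pr) := by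
  refine hy.mono ?_
  rw [zpowers_le, mem_comap]
  exact mem_zpowers _

/-- **`n = 5`.** -/
theorem psl_five_5 (F : Type*) [Field F] [Finite F] :
    Sep 5 (Matrix.ProjectiveSpecialLinearGroup (Fin 5) F) := by
  obtain ⟨p, hpc⟩ := CharP.exists F
  have : Fact p.Prime := ⟨CharP.char_is_prime F p⟩
  obtain ⟨S, hS⟩ := exists_sylow (ι := Fin 5) (F := F) (p := p)
  obtain ⟨y, hy, -⟩ := exists_singer F (n := 5) (by norm_num)
  exact sep_typ_add (typ_PSL (F := F) 4 (p := p)) S (k := 1) (fun _ => zpowers (pr y))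
    (fun _ => zpowers_ne_top (by norm_num) _) (fun i j hij => absurd hij (by omega))
    fun _ => apart_of_irr hS (irr_comap_zpowers hy)

/-- the image of the similitude group is maximal -/
theorem coatom_map_sim (F : Type*) [Field F] :
    IsCoatom ((Sim F).map (pr : Matrix.SpecialLinearGroup (Fin 4) F →* _)) := by
  have hc : ((Sim F).map (pr : Matrix.SpecialLinearGroup (Fin 4) F →* _)).comap pr = Sim F :=
    comap_map_eq_self ker_le_sim
  refine ⟨fun h => sim_ne_top (F := F) (by rw [← hc, h, comap_top]), fun K hK => ?_⟩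
  have h1 : K.comap (pr : Matrix.SpecialLinearGroup (Fin 4) F →* _) = ⊤ := by
    refine sim_top (hc ▸ comap_mono hK.le) fun h2 => hK.not_ge ?_
    intro x hx
    obtain ⟨z, rfl⟩ := pr_surjective x
    exact mem_map_of_mem _ (h2 hx)
  rw [eq_top_iff]
  intro x _
  obtain ⟨z, rfl⟩ := pr_surjective x
  have : z ∈ K.comap pr := by rw [h1]; exact mem_top _
  exact this

/-- **`n = 4`.** -/
theorem psl_five_4 (F : Type*) [Field F] [Finite F] :
    Sep 5 (Matrix.ProjectiveSpecialLinearGroup (Fin 4) F) := by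
  obtain ⟨p, hpc⟩ := CharP.exists F
  have : Fact p.Prime := ⟨CharP.char_is_prime F p⟩
  obtain ⟨S, hS⟩ := exists_sylow (ι := Fin 4) (F := F) (p := p)
  obtain ⟨y, hy, hy'⟩ := exists_singer F (n := 4) (by norm_num)
  have hco := coatom_map_sim F
  have hc : ((Sim F).map (pr : Matrix.SpecialLinearGroup (Fin 4) F →* _)).comap pr = Sim F :=
    comap_map_eq_self ker_le_sim
  have hap : Apart ((Sim F).map (pr : Matrix.SpecialLinearGroup (Fin 4) F →* _)) (zpowers (pr y)) := by
    refine apart_of_coatom hco fun g => ⟨pr y, mem_zpowers _, fun hcon => ?_⟩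
    obtain ⟨h, rfl⟩ := pr_surjective g
    have h1 : h * y * h⁻¹ ∈ ((Sim F).map (pr : Matrix.SpecialLinearGroup (Fin 4) F →* _)).comap pr := by
      rw [mem_comap, map_mul, map_mul, map_inv]
      exact hcon
    rw [hc] at h1
    obtain ⟨c, -, h2⟩ := h1
    refine hy' rfl c (fun u v => sf ((h : Matrix (Fin 4) (Fin 4) F) *ᵥ u) ((h : Matrix (Fin 4) (Fin 4) F) *ᵥ v))
      (fun x y z => by rw [mulVec_add, sf_add_left]) (fun x y z => by rw [mulVec_add, sf_add_right])
      (fun a x y => by rw [mulVec_smul, sf_smul_left]) (fun a x y => by rw [mulVec_smul, sf_smul_right])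
      (fun x hx => ?_) fun u v => ?_
    · have h3 : (h : Matrix (Fin 4) (Fin 4) F) *ᵥ x = 0 := sf_nondeg fun w => by
        have := hx (((h⁻¹ : Matrix.SpecialLinearGroup (Fin 4) F) : Matrix (Fin 4) (Fin 4) F) *ᵥ w)
        rwa [mulVec_inv] at this
      have h4 := inv_mulVec h x
      rw [h3, mulVec_zero] at h4
      exact h4.symm
    · have h3 := h2 ((h : Matrix (Fin 4) (Fin 4) F) *ᵥ u) ((h : Matrix (Fin 4) (Fin 4) F) *ᵥ v)
      rw [sl_mul_mulVec, sl_mul_mulVec, sl_mul_mulVec, sl_mul_mulVec, inv_mulVec, inv_mulVec] at h3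
      exact h3
  refine sep_typ_add (typ_PSL (F := F) 3 (p := p)) S (k := 2)
    ![(Sim F).map (pr : Matrix.SpecialLinearGroup (Fin 4) F →* _), zpowers (pr y)] (fun i => ?_) (fun i j hij => ?_)
    fun i => ?_
  · fin_cases i
    · exact hco.1
    · exact zpowers_ne_top (by norm_num) _
  · have hi : i = 0 := by omega
    have hj : j = 1 := by omega
    subst hi hj
    exact hap
  · fin_cases i
    · exact apart_of_irr hS (by
        change Irr (((Sim F).map (pr : Matrix.SpecialLinearGroup (Fin 4) F →* _)).comap pr)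
        rw [hc]; exact sim_irr)
    · exact apart_of_irr hS (irr_comap_zpowers hy)

/-- **The rows of `PSL_n(q)`, `n ≥ 4`.** -/
theorem psl_five (F : Type*) [Field F] [Finite F] (n : ℕ) (hn : 4 ≤ n) :
    Sep 5 (Matrix.ProjectiveSpecialLinearGroup (Fin n) F) := by
  rcases lt_or_ge n 6 with h | h
  · interval_cases n
    · exact psl_five_4 F
    · exact psl_five_5 F
  · exact psl_five_ge6 F h

end Cfsg.Agent.H507.Mc
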