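import Cfsg.Agent.H507.Mc.Base

/-!
# A Singer element of `SL_n(q)` (helper507, for S5906, S5907)

* `exists_elt` : an element `λ` of norm `1` and order `(q ^ n - 1) / (q - 1)` in the field with `q ^ n` elements;
* `exists_singer` : `y ∈ SL_n(q)`, `⟨y⟩` irreducible, and (`n = 4`) no conjugate of `y` is a similitude of a
  non-degenerate bilinear form.
-/

set_option autoImplicit false
set_option linter.unusedSectionVars false

namespace Cfsg.Agent.H507.Mc

open Matrix Subgroup Polynomial
open Cfsg.Agent.ClassicalGeometry.AutPSL.Root (tr coe_tr tr_mulVec sl_ext sl_mul_mulVec tr_mul_same_axis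
  tr_mul_same_center transvection_eq_tr pr pr_surjective)

section Field

variable {F K : Type*} [Field F] [Field K] [Algebra F K] [Finite K] [FiniteDimensional F K]

theorem card_field : Nat.card K = Nat.card F ^ Module.finrank F K := Module.natCard_eq_pow_finrank

/-- the number `(q ^ n - 1) / (q - 1)` is larger than `q ^ (n - 1)` -/
theorem geom_gt {q n : ℕ} (hq : 2 ≤ q) (hn : 2 ≤ n) : q ^ (n - 1) < (q ^ n - 1) / (q - 1) := by
  rw [Nat.lt_iff_add_one_le, Nat.le_div_iff_mul_le (by omega)]
  obtain ⟨k, rfl⟩ : ∃ k, n = k + 2 := ⟨n - 2, by omega⟩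
  obtain ⟨r, rfl⟩ : ∃ r, q = r + 1 := ⟨q - 1, by omega⟩
  have h1 : (r + 1) ^ (k + 2) = (r + 1) ^ (k + 1) * (r + 1) := pow_succ _ _
  have h2 : r + 1 ≤ (r + 1) ^ (k + 1) := Nat.le_self_pow (by omega) _
  rw [show k + 2 - 1 = k + 1 by omega, h1, Nat.add_sub_cancel]
  have h3 : ((r + 1) ^ (k + 1) + 1) * r + 1 ≤ (r + 1) ^ (k + 1) * (r + 1) := by nlinarith
  omega

theorem geom_mul {q n : ℕ} : (q ^ n - 1) / (q - 1) * (q - 1) = q ^ n - 1 :=
  Nat.div_mul_cancel (by simpa using Nat.sub_dvd_pow_sub_pow q 1 n)

/-- an element of norm one and large order -/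
theorem exists_elt (_hn : 2 ≤ Module.finrank F K) :
    ∃ l : K, l ≠ 0 ∧ orderOf l = (Nat.card K - 1) / (Nat.card F - 1) ∧ Algebra.norm F l = 1 := by
  have hF : Finite F := Finite.of_injective _ (algebraMap F K).injective
  have hFi := Fintype.ofFinite F
  have hKi := Fintype.ofFinite K
  have hq : 2 ≤ Nat.card F := by rw [Nat.card_eq_fintype_card]; exact Fintype.one_lt_card
  obtain ⟨u, hu⟩ := IsCyclic.exists_generator (α := Kˣ)
  have hou : orderOf u = Nat.card K - 1 := by
    rw [orderOf_eq_card_of_forall_mem_zpowers hu, Nat.card_units]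
  have hcard := card_field (F := F) (K := K)
  have hdvd : Nat.card F - 1 ∣ Nat.card K - 1 := by
    rw [hcard]
    simpa using Nat.sub_dvd_pow_sub_pow (Nat.card F) 1 (Module.finrank F K)
  have hpos : 0 < Nat.card K - 1 := by
    have : 1 < Nat.card K := Finite.one_lt_card
    omega
  set l : Kˣ := u ^ (Nat.card F - 1) with hl
  have hol : orderOf l = (Nat.card K - 1) / (Nat.card F - 1) := by
    rw [hl, orderOf_pow' u (by omega), hou, Nat.gcd_eq_right hdvd]
  refine ⟨(l : K), l.ne_zero, by rw [orderOf_units, hol], ?_⟩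
  apply (algebraMap F K).injective
  rw [FiniteField.algebraMap_norm_eq_pow, map_one, ← Units.val_pow_eq_pow_val, ← hol, pow_orderOf_eq_one,
    Units.val_one]

/-- it generates the field -/
theorem adjoin_eq_top {l : K} (hn : 2 ≤ Module.finrank F K)
    (hl : orderOf l = (Nat.card K - 1) / (Nat.card F - 1)) (hl0 : l ≠ 0) : Algebra.adjoin F {l} = ⊤ := by
  have hF : Finite F := Finite.of_injective _ (algebraMap F K).injective
  have hFi := Fintype.ofFinite F
  have hq : 2 ≤ Nat.card F := by rw [Nat.card_eq_fintype_card]; exact Fintype.one_lt_card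
  by_contra hcon
  set A := Algebra.adjoin F {l} with hA
  have hlA : l ∈ A := Algebra.subset_adjoin rfl
  have hrank : Module.finrank F A < Module.finrank F K := by
    have h1 : Subalgebra.toSubmodule A ≠ ⊤ := fun h => hcon (Algebra.toSubmodule_eq_top.1 h)
    exact Submodule.finrank_lt h1
  -- the powers of `l`
  have h2 : orderOf l ≤ Nat.card A := by
    have h3 : Function.Injective (fun i : Fin (orderOf l) => (⟨l ^ (i : ℕ), pow_mem hlA i⟩ : A)) := by
      intro i j hij
      have h4 : l ^ (i : ℕ) = l ^ (j : ℕ) := congrArg Subtype.val hij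
      have h5 := pow_inj_mod (x := Units.mk0 l hl0) (n := (i : ℕ)) (m := (j : ℕ))
      rw [← orderOf_units, Units.val_mk0, Nat.mod_eq_of_lt i.2, Nat.mod_eq_of_lt j.2] at h5
      exact Fin.ext (h5.1 (Units.ext (by rw [Units.val_pow_eq_pow_val, Units.val_pow_eq_pow_val, Units.val_mk0, h4])))
    have h4 := Nat.card_le_card_of_injective _ h3
    rwa [Nat.card_fin] at h4
  have h3 : Nat.card A ≤ Nat.card F ^ (Module.finrank F K - 1) := by
    rw [Module.natCard_eq_pow_finrank (K := F) (V := A)]
    exact Nat.pow_le_pow_right (by omega) (by omega)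
  have h4 := geom_gt hq hn
  rw [hl, card_field (F := F) (K := K)] at h2
  omega

/-- invariant subspaces -/
theorem eq_bot_or_top {l : K} (h : Algebra.adjoin F {l} = ⊤) (W : Submodule F K) (hW : ∀ w ∈ W, l * w ∈ W) :
    W = ⊥ ∨ W = ⊤ := by
  have h1 : ∀ z : K, ∀ w ∈ W, z * w ∈ W := by
    intro z
    have hz : z ∈ Algebra.adjoin F {l} := by rw [h]; exact Algebra.mem_top
    induction hz using Algebra.adjoin_induction with
    | mem x hx =>
      rw [Set.mem_singleton_iff] at hx
      subst hx
      exact hW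
    | algebraMap r =>
      intro w hw
      rw [← Algebra.smul_def]
      exact W.smul_mem r hw
    | add x y _ _ hx hy =>
      intro w hw
      rw [add_mul]
      exact W.add_mem (hx w hw) (hy w hw)
    | mul x y _ _ hx hy =>
      intro w hw
      rw [mul_assoc]
      exact hx _ (hy w hw)
  by_cases hb : W = ⊥
  · exact Or.inl hb
  · right
    obtain ⟨w, hw, hw0⟩ := (Submodule.ne_bot_iff W).1 hb
    rw [eq_top_iff]
    intro z _
    have := h1 (z * w⁻¹) w hw
    rwa [inv_mul_cancel_right₀ hw0] at this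

/-- a generator of the field is not a similitude of a bilinear form: the conjugates -/
theorem exists_pow {l : K} {c : F} (hl0 : l ≠ 0) (s : K → K → F)
    (hs1 : ∀ x y z, s (x + y) z = s x z + s y z) (hs2 : ∀ x y z, s x (y + z) = s x y + s x z)
    (hs3 : ∀ (a : F) x y, s (a • x) y = a * s x y) (hs4 : ∀ (a : F) x y, s x (a • y) = a * s x y)
    (hnd : ∀ x, (∀ y, s x y = 0) → x = 0) (hs : ∀ x y, s (l * x) (l * y) = c * s x y) :
    ∃ i : ℕ, algebraMap F K c * l⁻¹ = l ^ (Nat.card F ^ i) := by
  have hF : Finite F := Finite.of_injective _ (algebraMap F K).injective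
  set m := algebraMap F K c * l⁻¹ with hm
  -- moving `l`
  have h1 : ∀ x y, s x (l * y) = s (m * x) y := by
    intro x y
    have h2 := hs (l⁻¹ * x) y
    rw [mul_inv_cancel_left₀ hl0] at h2
    rw [h2, ← hs3, hm, mul_assoc, Algebra.smul_def]
  have h2 : ∀ (k : ℕ) x y, s x (l ^ k * y) = s (m ^ k * x) y := by
    intro k
    induction k with
    | zero => intro x y; rw [pow_zero, pow_zero, one_mul, one_mul]
    | succ k ih =>
      intro x y
      rw [pow_succ, mul_assoc, ih, h1, pow_succ, ← mul_assoc, mul_comm m]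
  have hz1 : ∀ z, s 0 z = 0 := fun z => by
    have := hs3 0 0 z
    rwa [zero_smul, zero_mul] at this
  have hz2 : ∀ z, s z 0 = 0 := fun z => by
    have := hs4 0 z 0
    rwa [zero_smul, zero_mul] at this
  have h3 : ∀ (f : F[X]) x y, s x (aeval l f * y) = s (aeval m f * x) y := by
    intro f x y
    induction f using Polynomial.induction_on' with
    | add f g hf hg => rw [map_add, map_add, add_mul, add_mul, hs2, hs1, hf, hg]
    | monomial n a =>
      rw [aeval_monomial, aeval_monomial, mul_assoc, mul_assoc, ← Algebra.smul_def, ← Algebra.smul_def, hs4, hs3, h2]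
  -- `m` is a root of the minimal polynomial of `l`
  have hint : IsIntegral F l := Algebra.IsIntegral.isIntegral l
  have h4 : aeval m (minpoly F l) = 0 := by
    refine hnd _ fun y => ?_
    have h5 := h3 (minpoly F l) 1 y
    rw [minpoly.aeval, zero_mul, hz2, mul_one] at h5
    exact h5.symm
  have h5 : minpoly F m = minpoly F l :=
    (minpoly.eq_of_irreducible_of_monic (minpoly.irreducible hint) h4 (minpoly.monic hint)).symm
  obtain ⟨p, hp⟩ := CharP.exists F
  have : Fact p.Prime := ⟨CharP.char_is_prime F p⟩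
  have : Normal F K := inferInstance
  obtain ⟨g, hg⟩ := (Normal.minpoly_eq_iff_mem_orbit (F := F) (E := K) (x := m) (y := l)).1 h5
  obtain ⟨i, hi⟩ := FiniteField.exists_forall_apply_eq_pow F p K g
  refine ⟨i, ?_⟩
  rw [← hi l]
  exact hg.symm

theorem pow_card_sub_one {c : F} (hc : c ≠ 0) : (algebraMap F K c) ^ (Nat.card F - 1) = 1 := by
  have hF : Finite F := Finite.of_injective _ (algebraMap F K).injective
  rw [← map_pow]
  have h1 : (Units.mk0 c hc) ^ (Nat.card Fˣ) = 1 := pow_card_eq_one'
  rw [Nat.card_units] at h1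
  have h2 := congrArg Units.val h1
  rw [Units.val_pow_eq_pow_val, Units.val_mk0, Units.val_one] at h2
  rw [h2, map_one]

theorem le_of_pow {l : K} {c : F} (hc : c ≠ 0) {k : ℕ} (h : l ^ (k + 1) = algebraMap F K c) :
    orderOf l ≤ (k + 1) * (Nat.card F - 1) := by
  have hF : Finite F := Finite.of_injective _ (algebraMap F K).injective
  have hq : 1 < Nat.card F := Finite.one_lt_card
  refine Nat.le_of_dvd (Nat.mul_pos (by omega) (by omega)) (orderOf_dvd_of_pow_eq_one ?_)
  rw [pow_mul, h, pow_card_sub_one hc]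

/-- the numerical contradiction in degree four -/
theorem not_pow {l : K} (hl0 : l ≠ 0) (h4 : Module.finrank F K = 4)
    (hl : orderOf l = (Nat.card K - 1) / (Nat.card F - 1)) {c : F} {i : ℕ}
    (h : algebraMap F K c * l⁻¹ = l ^ (Nat.card F ^ i)) : False := by
  have hF : Finite F := Finite.of_injective _ (algebraMap F K).injective
  have hqq : 2 ≤ Nat.card F := Finite.one_lt_card
  have hK : Nat.card K = Nat.card F ^ 4 := by rw [card_field (F := F), h4]
  have hle' : ∀ k : ℕ, l ^ (k + 1) = algebraMap F K c → orderOf l ≤ (k + 1) * (Nat.card F - 1) := by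
    intro k hk
    refine le_of_pow (F := F) ?_ hk
    rintro rfl
    rw [map_zero, zero_mul] at h
    exact pow_ne_zero _ hl0 h.symm
  have hc : c ≠ 0 := by
    rintro rfl
    rw [map_zero, zero_mul] at h
    exact pow_ne_zero _ hl0 h.symm
  have h6 := pow_card_sub_one (F := F) (K := K) hc
  obtain ⟨q, hq⟩ : ∃ q, Nat.card F = q := ⟨_, rfl⟩
  rw [hq] at hqq hK hle' hl h h6
  have hq2 : 2 ≤ q := hqq
  have hord : q ^ 3 < orderOf l := by
    rw [hl, hK]
    exact geom_gt (q := q) (n := 4) hq2 (by norm_num)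
  have hfix : ∀ z : K, z ^ (q ^ 4) = z := by
    intro z
    have := Fintype.ofFinite K
    rw [← hK, Nat.card_eq_fintype_card, FiniteField.pow_card]
  -- reduce the exponent
  have hred : ∀ j : ℕ, l ^ (q ^ (4 * j + i % 4)) = l ^ (q ^ (i % 4)) := by
    intro j
    induction j with
    | zero => rw [mul_zero, zero_add]
    | succ j ih =>
      rw [show 4 * (j + 1) + i % 4 = 4 * j + i % 4 + 4 by ring, pow_add, pow_mul, ih]
      rw [hfix]
  have h1 : algebraMap F K c = l ^ (q ^ (i % 4) + 1) := by
    have h2 : l ^ (q ^ i) = l ^ (q ^ (i % 4)) := by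
      have := hred (i / 4)
      rwa [Nat.div_add_mod] at this
    rw [pow_succ, ← h2, ← h, inv_mul_cancel_right₀ hl0]
  have hi : i % 4 < 4 := Nat.mod_lt _ (by norm_num)
  have key : ∀ k : ℕ, l ^ (q ^ k + 1) = algebraMap F K c → (q ^ k + 1) * (q - 1) ≤ q ^ 3 → False := by
    intro k hk hle
    have := hle' _ hk
    omega
  have hq1 : 1 ≤ q := by omega
  have h5 : (algebraMap F K c) ^ q = algebraMap F K c := by
    calc (algebraMap F K c) ^ q = (algebraMap F K c) ^ (q - 1) * algebraMap F K c := by
          rw [← pow_succ, Nat.sub_add_cancel hq1]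
      _ = algebraMap F K c := by rw [h6, one_mul]
  obtain ⟨r, hr⟩ : ∃ r, q = r + 1 := ⟨q - 1, by omega⟩
  have hcases : i % 4 = 0 ∨ i % 4 = 1 ∨ i % 4 = 2 ∨ i % 4 = 3 := by omega
  rcases hcases with hj | hj | hj | hj <;> rw [hj] at h1
  · refine key 0 h1.symm ?_
    rw [hr, Nat.add_sub_cancel, pow_zero]
    nlinarith [sq_nonneg r, Nat.zero_le (r ^ 3)]
  · refine key 1 h1.symm ?_
    rw [hr, Nat.add_sub_cancel, pow_one]
    nlinarith [sq_nonneg r, Nat.zero_le (r ^ 3)]
  · refine key 2 h1.symm ?_
    rw [hr, Nat.add_sub_cancel]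
    nlinarith [sq_nonneg r, Nat.zero_le (r ^ 3)]
  · -- the third power of Frobenius
    have h2 : l ^ (q + 1) = algebraMap F K c := by
      have h3 : (algebraMap F K c) ^ q = (l ^ (q ^ 3 + 1)) ^ q := congrArg (fun z => z ^ q) h1
      rw [h5, ← pow_mul, add_mul, one_mul, ← pow_succ, pow_add, hfix] at h3
      rw [h3, pow_succ, mul_comm]
    refine key 1 (by rw [pow_one]; exact h2) ?_
    rw [hr, Nat.add_sub_cancel, pow_one]
    nlinarith [sq_nonneg r, Nat.zero_le (r ^ 3)]

end Field

/-- **A Singer element.** -/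
theorem exists_singer (F : Type*) [Field F] [Finite F] {n : ℕ} (hn : 2 ≤ n) :
    ∃ y : Matrix.SpecialLinearGroup (Fin n) F, Irr (zpowers y) ∧
      (n = 4 → ∀ (c : F) (s : (Fin n → F) → (Fin n → F) → F), (∀ x y z, s (x + y) z = s x z + s y z) →
        (∀ x y z, s x (y + z) = s x y + s x z) → (∀ (a : F) x y, s (a • x) y = a * s x y) →
        (∀ (a : F) x y, s x (a • y) = a * s x y) → (∀ x, (∀ y, s x y = 0) → x = 0) →
        (∀ u v, s ((y : Matrix (Fin n) (Fin n) F) *ᵥ u) ((y : Matrix (Fin n) (Fin n) F) *ᵥ v) = c * s u v) → False) := by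
  obtain ⟨p, hp⟩ := CharP.exists F
  have hpp : Fact p.Prime := ⟨CharP.char_is_prime F p⟩
  have hn0 : NeZero n := ⟨by omega⟩
  let K := FiniteField.Extension F p n
  have hrank : Module.finrank F K = n := FiniteField.finrank_extension F p n
  have hfin : Finite K := inferInstance
  have hfd : FiniteDimensional F K := Module.finite_of_finrank_pos (by rw [hrank]; omega)
  obtain ⟨l, hl0, hl1, hl2⟩ := exists_elt (F := F) (K := K) (by omega)
  let b : Module.Basis (Fin n) F K := Module.finBasisOfFinrankEq F K hrank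
  set M : Matrix (Fin n) (Fin n) F := Algebra.leftMulMatrix b l with hM
  have hdet : M.det = 1 := by rw [hM, ← Algebra.norm_eq_matrix_det, hl2]
  have hact : ∀ x : K, M *ᵥ (b.equivFun x) = b.equivFun (l * x) := by
    intro x
    exact Algebra.leftMulMatrix_mulVec_repr b l x
  have hact' : ∀ u : Fin n → F, M *ᵥ u = b.equivFun (l * b.equivFun.symm u) := by
    intro u
    rw [← hact, b.equivFun.apply_symm_apply]
  refine ⟨⟨M, hdet⟩, fun W hW => ?_, fun h4 c s hs1 hs2 hs3 hs4 hnd hs => ?_⟩
  · have h1 := eq_bot_or_top (adjoin_eq_top (by omega) hl1 hl0) (W.comap (b.equivFun : K →ₗ[F] (Fin n → F)))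
      fun w hw => by
        rw [Submodule.mem_comap] at hw ⊢
        change b.equivFun (l * w) ∈ W
        rw [← hact]
        exact hW _ (mem_zpowers _) _ hw
    rcases h1 with h1 | h1
    · left
      rw [eq_bot_iff]
      intro w hw
      have h2 : b.equivFun.symm w ∈ W.comap (b.equivFun : K →ₗ[F] (Fin n → F)) := by
        rw [Submodule.mem_comap]
        change b.equivFun (b.equivFun.symm w) ∈ W
        rwa [b.equivFun.apply_symm_apply]
      rw [h1, Submodule.mem_bot] at h2
      rw [Submodule.mem_bot]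
      have := congrArg b.equivFun h2
      rwa [b.equivFun.apply_symm_apply, map_zero] at this
    · right
      rw [eq_top_iff]
      intro w _
      have h2 : b.equivFun.symm w ∈ W.comap (b.equivFun : K →ₗ[F] (Fin n → F)) := by
        rw [h1]; exact Submodule.mem_top
      rw [Submodule.mem_comap] at h2
      change b.equivFun (b.equivFun.symm w) ∈ W at h2
      rwa [b.equivFun.apply_symm_apply] at h2
  · obtain ⟨i, hi⟩ := exists_pow (F := F) (K := K) (l := l) (c := c) hl0 (fun x y => s (b.equivFun x) (b.equivFun y))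
      (fun x y z => by rw [map_add, hs1]) (fun x y z => by rw [map_add, hs2]) (fun a x y => by rw [map_smul, hs3])
      (fun a x y => by rw [map_smul, hs4]) (fun x hx => by
        have := hnd (b.equivFun x) fun y => by
          have := hx (b.equivFun.symm y)
          rwa [b.equivFun.apply_symm_apply] at this
        exact b.equivFun.map_eq_zero_iff.1 this) (fun x y => by
        rw [← hact, ← hact]
        exact hs _ _)
    exact not_pow hl0 (by rw [hrank, h4]) hl1 hi

end Cfsg.Agent.H507.Mc
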